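import Cfsg.Agent.H795.UF.Num3
import Cfsg.Agent.S2476
import Cfsg.Agent.H124.SUThreeEig
import Cfsg.Agent.H127.PSUThreeEx

/-!
# S3461, cross characteristic rows: `PSL_3` and `PSU_3` (helper795)
-/

set_option autoImplicit false

namespace Cfsg.Agent.H795.UF

open Cfsg Cfsg.Agent.H945.UF

/-- an even element order is prime to `mm q` -/
theorem cop_of_even {p q : ℕ} {S : Type*} [Group S] (h : CandU p q S) {n : ℕ} (he : ∃ x : S, orderOf x = n)
    (h2 : 2 ∣ n) : Nat.Coprime n (mm q) := by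
  obtain ⟨x, rfl⟩ := he
  refine Nat.coprime_of_dvd' fun r hr h3 h4 => ?_
  exact absurd h2 (h.not_two_dvd hr h4 h3)

/-- the numerical core -/
theorem core {p q : ℕ} {S : Type*} [Group S] (h : CandU p q S) {u v d T N R : ℕ} (hu : 2 ≤ u)
    (hv : v = 2 ∨ u % 2 = 1) (hd : d = 1 ∨ d = 3)
    (hT : (d * T = u ^ 2 + u + 1 ∧ d * R + 1 = u) ∨ (d * T + u = u ^ 2 + 1 ∧ d * R = u + 1)) (hN : d * N + 1 = u ^ 2)
    (eT : ∃ x : S, orderOf x = T) (eN : ∃ x : S, orderOf x = N) (eR : ∃ x : S, orderOf x = v * R)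
    (spec : ∀ x : S, orderOf x ∣ T ∨ orderOf x ∣ N ∨ orderOf x ∣ d * R ∨ orderOf x ∣ v * R ∨
      (v = 2 ∧ orderOf x ∣ 4)) : False := by
  have hq := h.q_ge
  have hM25 := h.mm_ge
  have hM1 : ∀ n, Nat.Coprime n (mm q) → ¬ mm q ∣ n := by
    intro n h1 h2
    have := Nat.eq_one_of_dvd_coprimes h1 h2 dvd_rfl
    omega
  have c3 : Nat.Coprime 3 (mm q) := (Nat.Prime.coprime_iff_not_dvd Nat.prime_three).2 h.not_three
  have c2 : Nat.Coprime 2 (mm q) := by
    refine (Nat.Prime.coprime_iff_not_dvd Nat.prime_two).2 ?_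
    have := h.mm_odd
    omega
  have cd : Nat.Coprime d (mm q) := by
    rcases hd with rfl | rfl
    · exact Nat.coprime_one_left _
    · exact c3
  have hevR : 2 ∣ v * R := by
    rcases hv with rfl | hv
    · exact dvd_mul_right _ _
    · refine Dvd.dvd.mul_left ?_ v
      rcases hd with rfl | rfl <;> omega
  have cvR := cop_of_even h eR hevR
  have cR : Nat.Coprime R (mm q) := Nat.Coprime.coprime_dvd_left (dvd_mul_left _ _) cvR
  obtain ⟨x, hx⟩ := h.elt'
  have hs := spec x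
  rw [hx] at hs
  rcases hs with hs | hs | hs | hs | ⟨-, hs⟩
  · -- `M ∣ T`
    have cN : Nat.Coprime N (mm q) := by
      refine Nat.coprime_of_dvd' fun r hr h3 h4 => ?_
      exfalso
      have h5 : r ∣ d * T := (h4.trans hs).mul_left d
      have h6 : r ∣ d * N := h3.mul_left d
      have h7 : (r : ℤ) ∣ 3 := by
        have h5' : (r : ℤ) ∣ ((d * T : ℕ) : ℤ) := by exact_mod_cast h5
        have h6' : (r : ℤ) ∣ (u : ℤ) ^ 2 - 1 := by
          have : (u : ℤ) ^ 2 - 1 = ((d * N : ℕ) : ℤ) := by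
            have : ((d * N + 1 : ℕ) : ℤ) = ((u ^ 2 : ℕ) : ℤ) := by rw [hN]
            push_cast at this ⊢
            linarith
          rw [this]; exact_mod_cast h6
        rcases hT with ⟨hT, -⟩ | ⟨hT, -⟩
        · have h8 : ((d * T : ℕ) : ℤ) = (u : ℤ) ^ 2 + u + 1 := by rw [hT]; push_cast; ring
          rw [h8] at h5'
          have h9 := dvd_sub h5' h6'
          have h10 : (r : ℤ) ∣ ((u : ℤ) ^ 2 + u + 1 - (u ^ 2 - 1)) * (u - 2) := h9.mul_right _
          have h11 := dvd_sub h6' h10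
          have : (u : ℤ) ^ 2 - 1 - ((u : ℤ) ^ 2 + u + 1 - (u ^ 2 - 1)) * (u - 2) = 3 := by ring
          rwa [this] at h11
        · have h8 : ((d * T : ℕ) : ℤ) = (u : ℤ) ^ 2 - u + 1 := by
            have : ((d * T + u : ℕ) : ℤ) = ((u ^ 2 + 1 : ℕ) : ℤ) := by rw [hT]
            push_cast at this ⊢
            linarith
          rw [h8] at h5'
          have h9 := dvd_sub h5' h6'
          have h10 : (r : ℤ) ∣ ((u : ℤ) ^ 2 - u + 1 - (u ^ 2 - 1)) * (u + 2) := h9.mul_right _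
          have h11 := dvd_add h6' h10
          have : (u : ℤ) ^ 2 - 1 + ((u : ℤ) ^ 2 - u + 1 - (u ^ 2 - 1)) * (u + 2) = 3 := by ring
          rwa [this] at h11
      have h8 : r ∣ 3 := by exact_mod_cast h7
      have h9 := (Nat.prime_dvd_prime_iff_eq hr Nat.prime_three).1 h8
      subst h9
      exact h.not_three h4
    have hN0 : N ≠ 0 := by
      rintro rfl
      have : 2 ^ 2 ≤ u ^ 2 := Nat.pow_le_pow_left hu 2
      omega
    have hK : ((T : ℤ) - N) ^ 2 ≤ 5 * T := by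
      have hNZ : (d : ℤ) * N + 1 = u ^ 2 := by exact_mod_cast hN
      have huZ : (2 : ℤ) ≤ u := by exact_mod_cast hu
      have hdZ : (d : ℤ) = 1 ∨ (d : ℤ) = 3 := by
        rcases hd with rfl | rfl
        · left; rfl
        · right; rfl
      have h1 : (d : ℤ) ^ 2 * ((T : ℤ) - N) ^ 2 ≤ 5 * (d * T) := by
        rcases hT with ⟨hT, -⟩ | ⟨hT, -⟩
        · have hTZ : (d : ℤ) * T = u ^ 2 + u + 1 := by exact_mod_cast hT
          have e : (d : ℤ) ^ 2 * ((T : ℤ) - N) ^ 2 = (u + 2) ^ 2 := by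
            have : (d : ℤ) * (T - N) = u + 2 := by linear_combination hTZ - hNZ
            rw [← this]; ring
          rw [e, hTZ]
          nlinarith
        · have hTZ : (d : ℤ) * T + u = u ^ 2 + 1 := by exact_mod_cast hT
          have e : (d : ℤ) ^ 2 * ((T : ℤ) - N) ^ 2 = (u - 2) ^ 2 := by
            have : (d : ℤ) * (T - N) = -(u - 2) := by linear_combination hTZ - hNZ
            have h2 : (d : ℤ) ^ 2 * ((T : ℤ) - N) ^ 2 = (d * (T - N)) ^ 2 := by ring
            rw [h2, this]; ring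
          rw [e]
          nlinarith
      have hT0 : (0 : ℤ) ≤ T := Int.natCast_nonneg _
      rcases hdZ with h2 | h2 <;> rw [h2] at h1 <;> nlinarith
    refine num3 hq h.h4 hu hd ?_ hN (h.pair eT hs eN hN0 cN hK)
    rcases hT with ⟨hT, -⟩ | ⟨hT, -⟩
    · exact Or.inl hT
    · exact Or.inr hT
  · -- `M ∣ N`
    obtain ⟨H, hH, hH2⟩ : ∃ H, N = H * R ∧ H ≤ 3 * R + 2 := by
      rcases hT with ⟨-, hR⟩ | ⟨-, hR⟩
      · refine ⟨u + 1, ?_, ?_⟩
        · have h1 : d * N = d * ((u + 1) * R) := by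
            have h2 : d * ((u + 1) * R) = (u + 1) * (d * R) := by ring
            rw [h2]
            obtain ⟨t, ht⟩ : ∃ t, t = d * R := ⟨_, rfl⟩
            rw [← ht] at hR ⊢
            subst hR
            have : (t + 1) ^ 2 = (t + 1 + 1) * t + 1 := by ring
            omega
          exact Nat.eq_of_mul_eq_mul_left (by rcases hd with rfl | rfl <;> norm_num) h1
        · rcases hd with rfl | rfl <;> omega
      · refine ⟨u - 1, ?_, ?_⟩
        · have h1 : d * N = d * ((u - 1) * R) := by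
            have h2 : d * ((u - 1) * R) = (u - 1) * (d * R) := by ring
            rw [h2, hR]
            obtain ⟨t, rfl⟩ : ∃ t, u = t + 1 := ⟨u - 1, by omega⟩
            rw [Nat.add_sub_cancel]
            have : (t + 1) ^ 2 = t * (t + 1 + 1) + 1 := by ring
            omega
          exact Nat.eq_of_mul_eq_mul_left (by rcases hd with rfl | rfl <;> norm_num) h1
        · rcases hd with rfl | rfl <;> omega
    have hMH : mm q ∣ H := by
      rw [hH] at hs
      exact cR.symm.dvd_of_dvd_mul_right hs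
    have hH0 : H ≠ 0 := by
      rintro rfl
      rw [Nat.zero_mul] at hH
      subst hH
      have : 2 ^ 2 ≤ u ^ 2 := Nat.pow_le_pow_left hu 2
      omega
    obtain ⟨h1, h2, -⟩ := h.rest eN hH hMH hH0
    have h3 : 7 * q ≤ q ^ 2 := by rw [sq]; exact Nat.mul_le_mul_right _ hq
    omega
  · exact hM1 _ cR (cd.symm.dvd_of_dvd_mul_left hs)
  · exact hM1 _ cvR hs
  · have := Nat.le_of_dvd (by norm_num) hs
    omega

theorem gcd_three (n : ℕ) : (Nat.gcd 3 n = 1 ∧ ¬ 3 ∣ n) ∨ (Nat.gcd 3 n = 3 ∧ 3 ∣ n) := by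
  by_cases h : 3 ∣ n
  · exact Or.inr ⟨Nat.gcd_eq_left h, h⟩
  · exact Or.inl ⟨(Nat.Prime.coprime_iff_not_dvd Nat.prime_three).2 h, h⟩

/-- **`PSL_3(u)`** -/
theorem row_psl3 {F : Type*} [Field F] [Fintype F] {p q : ℕ} (_hpF : (p : F) ≠ 0)
    (h : CandU p q (Matrix.ProjectiveSpecialLinearGroup (Fin 3) F)) : False := by
  obtain ⟨v, hv⟩ := CharP.exists F
  obtain ⟨n, hvp, hcard⟩ := FiniteField.card F v
  have := Fact.mk hvp
  have hspec := Cfsg.Agent.S2476.result (F := F) v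
  obtain ⟨u, hu⟩ : ∃ u, Fintype.card F = u := ⟨_, rfl⟩
  rw [hu] at hspec hcard
  have hu2 : 2 ≤ u := by rw [← hu]; exact Fintype.one_lt_card
  have hv2 : v = 2 ∨ u % 2 = 1 := by
    rcases hvp.eq_two_or_odd with h1 | h1
    · exact Or.inl h1
    · right; rw [hcard, Nat.pow_mod, h1, Nat.one_pow, Nat.one_mod]
  obtain ⟨t, rfl⟩ : ∃ t, u = t + 1 := ⟨u - 1, by omega⟩
  rw [Nat.add_sub_cancel] at hspec
  obtain ⟨d, hdd⟩ : ∃ d, d = Nat.gcd 3 t := ⟨_, rfl⟩
  rw [← hdd] at hspec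
  have hd : d = 1 ∨ d = 3 := by
    rcases gcd_three t with h1 | h1
    · exact Or.inl (hdd.trans h1.1)
    · exact Or.inr (hdd.trans h1.1)
  have hdt : d ∣ t := by rw [hdd]; exact Nat.gcd_dvd_right _ _
  obtain ⟨R, hR⟩ := hdt
  have hd0 : 0 < d := by rcases hd with rfl | rfl <;> norm_num
  have hex : ∀ m, (m ∣ ((t + 1) ^ 2 + (t + 1) + 1) / d ∨ m ∣ ((t + 1) ^ 2 - 1) / d ∨ m ∣ t ∨ m ∣ v * t / d ∨
      (v = 2 ∧ m ∣ 4)) ↔ ∃ x : Matrix.ProjectiveSpecialLinearGroup (Fin 3) F, orderOf x = m := by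
    intro m
    constructor
    · intro h1
      have h2 : m ∈ Set.range (orderOf : Matrix.ProjectiveSpecialLinearGroup (Fin 3) F → ℕ) := by
        rw [hspec]; exact h1
      exact h2
    · intro h1
      have h2 : m ∈ Set.range (orderOf : Matrix.ProjectiveSpecialLinearGroup (Fin 3) F → ℕ) := h1
      rw [hspec] at h2
      exact h2
  have e3 : v * t / d = v * R := by rw [hR, ← mul_assoc, mul_comm v d, mul_assoc, Nat.mul_div_cancel_left _ hd0]
  have e2 : d * (((t + 1) ^ 2 - 1) / d) = (t + 1) ^ 2 - 1 := by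
    refine Nat.mul_div_cancel' ?_
    have : (t + 1) ^ 2 - 1 = t * (t + 2) := by
      have : (t + 1) ^ 2 = t * (t + 2) + 1 := by ring
      omega
    rw [this, hR]
    exact (dvd_mul_right _ _).mul_right _
  have e1 : d * (((t + 1) ^ 2 + (t + 1) + 1) / d) = (t + 1) ^ 2 + (t + 1) + 1 := by
    refine Nat.mul_div_cancel' ?_
    have : (t + 1) ^ 2 + (t + 1) + 1 = t * (t + 3) + 3 := by ring
    rw [this, hR]
    refine dvd_add ((dvd_mul_right _ _).mul_right _) ?_
    rcases hd with rfl | rfl <;> norm_num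
  rw [e3] at hex
  refine core h hu2 hv2 hd (T := ((t + 1) ^ 2 + (t + 1) + 1) / d) (N := ((t + 1) ^ 2 - 1) / d) (R := R)
    (Or.inl ⟨e1, by rw [← hR]⟩) ?_ ((hex _).1 (Or.inl dvd_rfl)) ((hex _).1 (Or.inr (Or.inl dvd_rfl)))
    ((hex _).1 (Or.inr (Or.inr (Or.inr (Or.inl dvd_rfl))))) ?_
  · rw [e2]
    have : 1 ≤ (t + 1) ^ 2 := Nat.one_le_pow _ _ (by omega)
    omega
  · intro x
    rw [← hR]
    exact (hex (orderOf x)).2 ⟨x, rfl⟩

/-- **`PSU_3(u)`** -/
theorem row_psu3 {F : Type*} [Field F] [Fintype F] {u : ℕ} (hF : Fintype.card F = u ^ 2) (_hu2 : u ≠ 2)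
    {p q : ℕ} (_hpF : (p : F) ≠ 0) (h : CandU p q (Cfsg.PSU 3 F u)) : False := by
  obtain ⟨v, hv⟩ := CharP.exists F
  obtain ⟨n, hvp, hcard⟩ := FiniteField.card F v
  have := Fact.mk hvp
  have hu2 : 2 ≤ u := Cfsg.Agent.ClassicalGeometry.GUBasic.two_le hF
  have hv2 : v = 2 ∨ u % 2 = 1 := by
    rcases hvp.eq_two_or_odd with h1 | h1
    · exact Or.inl h1
    · right
      have h2 : u ^ 2 % 2 = 1 := by rw [← hF, hcard, Nat.pow_mod, h1, Nat.one_pow, Nat.one_mod]
      rcases Nat.mod_two_eq_zero_or_one u with h3 | h3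
      · rw [Nat.pow_mod, h3] at h2; norm_num at h2
      · exact h3
  have x2 := Cfsg.Agent.H127.PSUThreeEx.ex_two v hF
  have x3 := Cfsg.Agent.H127.PSUThreeEx.ex_three hF
  have x4 := Cfsg.Agent.H127.PSUThreeEx.ex_four v hF
  have hs := Cfsg.Agent.H124.SUThreeEig.orderOf_dvd hF v
  obtain ⟨d, hdd⟩ : ∃ d, d = Nat.gcd 3 (u + 1) := ⟨_, rfl⟩
  rw [← hdd] at x2 x3 x4 hs
  have hd : d = 1 ∨ d = 3 := by
    rcases gcd_three (u + 1) with h1 | h1
    · exact Or.inl (hdd.trans h1.1)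
    · exact Or.inr (hdd.trans h1.1)
  have hdt : d ∣ u + 1 := by rw [hdd]; exact Nat.gcd_dvd_right _ _
  obtain ⟨R, hR⟩ := hdt
  have hd0 : 0 < d := by rcases hd with rfl | rfl <;> norm_num
  have e3 : v * (u + 1) / d = v * R := by
    rw [hR, ← mul_assoc, mul_comm v d, mul_assoc, Nat.mul_div_cancel_left _ hd0]
  have e4 : (u + 1) / d = R := by rw [hR, Nat.mul_div_cancel_left _ hd0]
  have e2 : d * ((u ^ 2 - 1) / d) = u ^ 2 - 1 := by
    refine Nat.mul_div_cancel' ?_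
    have : u ^ 2 - 1 = (u + 1) * (u - 1) := by
      have := Nat.sq_sub_sq u 1
      rwa [one_pow] at this
    rw [this, hR]
    exact (dvd_mul_right _ _).mul_right _
  have hle : u ≤ u ^ 2 := Nat.le_self_pow two_ne_zero u
  have e1 : d * ((u ^ 2 - u + 1) / d) = u ^ 2 - u + 1 := by
    refine Nat.mul_div_cancel' ?_
    obtain ⟨s, rfl⟩ : ∃ s, u = s + 2 := ⟨u - 2, by omega⟩
    have : (s + 2) ^ 2 - (s + 2) + 1 = (s + 2 + 1) * s + 3 := by
      have : (s + 2) ^ 2 = (s + 2 + 1) * s + 2 + (s + 2) := by ring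
      omega
    rw [this, hR]
    refine dvd_add ((dvd_mul_right _ _).mul_right _) ?_
    rcases hd with rfl | rfl <;> norm_num
  rw [e3] at x2
  rw [e4] at hs
  refine core h hu2 hv2 hd (T := (u ^ 2 - u + 1) / d) (N := (u ^ 2 - 1) / d) (R := R)
    (Or.inr ⟨by rw [e1]; omega, hR.symm⟩) ?_ (x4 _ dvd_rfl) (x3 _ dvd_rfl) (x2 _ dvd_rfl) ?_
  · rw [e2]
    have : 1 ≤ u ^ 2 := Nat.one_le_pow _ _ (by omega)
    omega
  · intro x
    rcases hs x with h1 | h1 | h1 | h1 | h1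
    · rw [hR] at h1; exact Or.inr (Or.inr (Or.inl h1))
    · exact Or.inr (Or.inr (Or.inr (Or.inl h1)))
    · exact Or.inr (Or.inl h1)
    · exact Or.inl h1
    · exact Or.inr (Or.inr (Or.inr (Or.inr h1)))

end Cfsg.Agent.H795.UF
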